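import Mathlib.CategoryTheory.Abelian.GrothendieckAxioms.Indization
import Mathlib.CategoryTheory.Abelian.Refinements
import Mathlib.CategoryTheory.Subobject.ArtinianObject
import Mathlib.CategoryTheory.Subobject.Limits
import Mathlib.CategoryTheory.Generator.Indization
import Mathlib.Data.Nat.Prime.Basic
import Mathlib.Data.Int.GCD
import Mathlib.Data.Nat.Factorization.Induction
import Mathlib.Data.Nat.Factorization.Basic

/-!
# Ind-objects of cofinite type

Torsion sub-objects of ind-objects of a small abelian category with Artinian torsion objects.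
-/

set_option autoImplicit false

universe v u

open CategoryTheory CategoryTheory.Limits

namespace Groth.Agent.CofiniteIndLib

section General

variable {V : Type u} [Category.{v} V] [Abelian V]

lemma comp_mul {T A : V} (x : T ⟶ A) (n : ℕ) : x ≫ (n • 𝟙 A) = n • x := by
  rw [Preadditive.comp_nsmul, Category.comp_id]

lemma mul_comp {A Z : V} (g : A ⟶ Z) (n : ℕ) : (n • 𝟙 A) ≫ g = n • g := by
  rw [Preadditive.nsmul_comp, Category.id_comp]

lemma ti_kill (A : V) (n : ℕ) : n • kernel.ι (n • 𝟙 A) = 0 :=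
  (comp_mul _ n).symm.trans (kernel.condition _)

noncomputable def tl {T A : V} (n : ℕ) (x : T ⟶ A) (h : n • x = 0) : T ⟶ kernel (n • 𝟙 A) :=
  kernel.lift _ x (by rw [comp_mul, h])

@[reassoc (attr := simp)]
lemma tl_ι {T A : V} (n : ℕ) (x : T ⟶ A) (h : n • x = 0) : tl n x h ≫ kernel.ι _ = x :=
  kernel.lift_ι _ _ _

lemma nsmul_eq_zero_of_dvd {T A : V} {m n : ℕ} (x : T ⟶ A) (hmn : m ∣ n) (h : m • x = 0) :
    n • x = 0 := by
  obtain ⟨c, rfl⟩ := hmn
  rw [mul_comm, mul_smul, h, smul_zero]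

lemma eq_zero_of_coprime {T A : V} {m n : ℕ} (x : T ⟶ A) (hc : Nat.Coprime m n)
    (hm : m • x = 0) (hn : n • x = 0) : x = 0 := by
  have hb := Nat.gcd_eq_gcd_ab m n
  rw [hc.gcd_eq_one] at hb
  have : x = ((m : ℤ) * Nat.gcdA m n + (n : ℤ) * Nat.gcdB m n) • x := by
    rw [← hb, Nat.cast_one, one_smul]
  rw [this, add_smul, mul_comm (m : ℤ), mul_comm (n : ℤ), mul_smul, mul_smul, natCast_zsmul,
    natCast_zsmul, hm, hn, smul_zero, smul_zero, add_zero]

lemma refine_image {T A B : V} (f : A ⟶ B) (x : T ⟶ B) (h : x ≫ cokernel.π f = 0) :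
    ∃ (T' : V) (π : T' ⟶ T) (_ : Epi π) (y : T' ⟶ A), π ≫ x = y ≫ f :=
  (ShortComplex.exact_of_g_is_cokernel
    (ShortComplex.mk f (cokernel.π f) (cokernel.condition f))
      (cokernelIsCokernel f)).exact_up_to_refinements x h

lemma image_le_of_refine {A A' B T : V} (f : A ⟶ B) (g : A' ⟶ B) (π : T ⟶ A) [Epi π]
    (y : T ⟶ A') (h : π ≫ f = y ≫ g) : imageSubobject f ≤ imageSubobject g := by
  refine le_of_eq_of_le ?_ (imageSubobject_comp_le y g)
  rw [← h]
  haveI := imageSubobject_comp_le_epi_of_epi π f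
  haveI := isIso_of_mono_of_epi (Subobject.ofLE _ _ (imageSubobject_comp_le π f))
  exact le_antisymm (Subobject.le_of_comm (inv (Subobject.ofLE _ _ (imageSubobject_comp_le π f)))
    (by simp)) (imageSubobject_comp_le π f)

lemma exists_refine_of_image_le {A A' B : V} (f : A ⟶ B) (g : A' ⟶ B)
    (h : imageSubobject f ≤ imageSubobject g) :
    ∃ (T : V) (π : T ⟶ A) (_ : Epi π) (y : T ⟶ A'), π ≫ f = y ≫ g := by
  obtain ⟨T, π, hπ, y, hy⟩ := surjective_up_to_refinements_of_epi (factorThruImageSubobject g)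
    (factorThruImageSubobject f ≫ Subobject.ofLE _ _ h)
  refine ⟨T, π, hπ, y, ?_⟩
  have := congrArg (· ≫ (imageSubobject g).arrow) hy
  simpa using this

lemma image_mul_mul_le (A : V) (m c : ℕ) :
    imageSubobject ((m * c) • 𝟙 A) ≤ imageSubobject (m • 𝟙 A) :=
  image_le_of_refine _ _ (𝟙 A) (c • 𝟙 A) (by
    rw [Category.id_comp, comp_mul, ← mul_smul])

/-- A divisible sub-object lies in the image of every positive multiplication. -/
lemma le_image_of_epi {A : V} (D : Subobject A) (k : ℕ) [Epi (k • 𝟙 (D : V))] :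
    D ≤ imageSubobject (k • 𝟙 A) :=
  calc D = imageSubobject D.arrow := (imageSubobject_mono D.arrow).trans (Subobject.mk_arrow D) |>.symm
    _ ≤ _ := image_le_of_refine _ _ (k • 𝟙 (D : V)) D.arrow (by rw [mul_comp, comp_mul])

lemma epi_mul_image {A : V} (m k : ℕ)
    (h : imageSubobject (m • 𝟙 A) ≤ imageSubobject ((m * k) • 𝟙 A)) :
    Epi (k • 𝟙 (imageSubobject (m • 𝟙 A) : V)) := by
  obtain ⟨T, π, hπ, y, hy⟩ := exists_refine_of_image_le _ _ h
  refine epi_of_epi_fac (f := y ≫ factorThruImageSubobject (m • 𝟙 A))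
    (h := π ≫ factorThruImageSubobject (m • 𝟙 A)) ?_
  rw [← cancel_mono (imageSubobject (m • 𝟙 A)).arrow]
  simp only [Category.assoc, mul_comp, Preadditive.comp_nsmul, Category.comp_id,
    Preadditive.nsmul_comp, imageSubobject_arrow_comp]
  simp only [comp_mul] at hy
  rw [hy, ← mul_smul, mul_comm]

end General

section Ind

variable {C : Type v} [SmallCategory C] [Abelian C]

instance : (Ind.yoneda (C := C)).Additive := Functor.additive_of_preserves_binary_products _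

/-- The essential image of `C` in `Ind C`. -/
def IsSmall (X : Ind C) : Prop := (Ind.yoneda (C := C)).essImage X

lemma IsSmall.of_iso {X Y : Ind C} (h : IsSmall X) (e : X ≅ Y) : IsSmall Y :=
  Functor.essImage.ofIso e h

lemma isSmall_yoneda (X : C) : IsSmall ((Ind.yoneda (C := C)).obj X) := Functor.obj_mem_essImage _ _

lemma IsSmall.biprod {X Y : Ind C} (hX : IsSmall X) (hY : IsSmall Y) : IsSmall (X ⊞ Y) := by
  obtain ⟨X', ⟨eX⟩⟩ := hX
  obtain ⟨Y', ⟨eY⟩⟩ := hY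
  haveI : PreservesBinaryBiproduct X' Y' (Ind.yoneda (C := C)) :=
    preservesBinaryBiproduct_of_preservesBinaryProduct _
  exact (isSmall_yoneda (X' ⊞ Y')).of_iso ((Ind.yoneda (C := C)).mapBiprod X' Y' ≪≫ biprod.mapIso eX eY)

lemma isSmall_cokernel {X Y : Ind C} (hX : IsSmall X) (hY : IsSmall Y) (f : X ⟶ Y) :
    IsSmall (cokernel f) := by
  obtain ⟨X', ⟨eX⟩⟩ := hX
  obtain ⟨Y', ⟨eY⟩⟩ := hY
  obtain ⟨f', hf'⟩ := (Ind.yoneda (C := C)).map_surjective (eX.hom ≫ f ≫ eY.inv)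
  exact (isSmall_yoneda (cokernel f')).of_iso (PreservesCokernel.iso _ f' ≪≫
    cokernel.mapIso _ _ eX eY (by rw [hf']; simp))

lemma isSmall_kernel {X Y : Ind C} (hX : IsSmall X) (hY : IsSmall Y) (f : X ⟶ Y) :
    IsSmall (kernel f) := by
  obtain ⟨X', ⟨eX⟩⟩ := hX
  obtain ⟨Y', ⟨eY⟩⟩ := hY
  obtain ⟨f', hf'⟩ := (Ind.yoneda (C := C)).map_surjective (eX.hom ≫ f ≫ eY.inv)
  exact (isSmall_yoneda (kernel f')).of_iso (PreservesKernel.iso _ f' ≪≫
    kernel.mapIso _ _ eX eY (by rw [hf']; simp))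

lemma isSmall_of_exact_epi (S : ShortComplex (Ind C)) (hS : S.Exact) [Epi S.g]
    (h₁ : IsSmall S.X₁) (h₂ : IsSmall S.X₂) : IsSmall S.X₃ :=
  (isSmall_cokernel h₁ h₂ S.f).of_iso
    ((cokernelIsCokernel S.f).coconePointUniqueUpToIso hS.gIsCokernel)

lemma isSmall_of_exact_mono (S : ShortComplex (Ind C)) (hS : S.Exact) [Mono S.f]
    (h₂ : IsSmall S.X₂) (h₃ : IsSmall S.X₃) : IsSmall S.X₁ :=
  (isSmall_kernel h₂ h₃ S.g).of_iso
    ((kernelIsKernel S.g).conePointUniqueUpToIso hS.fIsKernel)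

lemma eq_zero_of_yoneda {A Z : Ind C} (g : A ⟶ Z)
    (h : ∀ (X : C) (x : (Ind.yoneda (C := C)).obj X ⟶ A), x ≫ g = 0) : g = 0 := by
  have hs : ObjectProperty.IsSeparating (.ofObj (Ind.yoneda : C ⥤ _).obj) := Ind.isSeparating_range_yoneda
  refine hs _ _ ?_
  rintro _ ⟨X⟩ x
  rw [h, comp_zero]

/-- Every element with yoneda source is killed by a positive integer. -/
lemma exists_kill (htor : ∀ X : C, ∃ n : ℕ, 0 < n ∧ n • 𝟙 X = 0) {X : C} {A : Ind C}
    (x : (Ind.yoneda (C := C)).obj X ⟶ A) : ∃ n : ℕ, 0 < n ∧ n • x = 0 := by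
  obtain ⟨n, hn, h⟩ := htor X
  refine ⟨n, hn, ?_⟩
  rw [← mul_comp, ← (Ind.yoneda (C := C)).map_id, ← Functor.map_nsmul, h, Functor.map_zero, zero_comp]

/-- Cofinite type: every torsion sub-object lies in `C`. -/
def Cof (A : Ind C) : Prop := ∀ n : ℕ, 0 < n → IsSmall (kernel (n • 𝟙 A))

lemma Cof.of_iso {A B : Ind C} (h : Cof A) (e : A ≅ B) : Cof B := fun n hn =>
  (h n hn).of_iso (kernel.mapIso _ _ e e (by rw [mul_comp, comp_mul]))

/-- Descending chain condition for images in a small object. -/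
lemma exists_min_image (hart : ∀ X : C, IsArtinianObject X) {ι : Type} [Nonempty ι]
    {W : Ind C} (hW : IsSmall W) (Z : ι → Ind C) (hZ : ∀ i, IsSmall (Z i))
    (φ : ∀ i, Z i ⟶ W)
    (hdir : ∀ i j, ∃ k, (∃ a : Z k ⟶ Z i, a ≫ φ i = φ k) ∧ ∃ b : Z k ⟶ Z j, b ≫ φ j = φ k) :
    ∃ i₀, ∀ k (T : Ind C) (x : T ⟶ Z i₀), ∃ (T' : Ind C) (π : T' ⟶ T) (_ : Epi π)
      (y : T' ⟶ Z k), π ≫ x ≫ φ i₀ = y ≫ φ k := by
  obtain ⟨W', ⟨eW⟩⟩ := hW
  choose Z' eZ using hZ
  let e := fun i => (eZ i).some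
  choose φ' hφ' using fun i => (Ind.yoneda (C := C)).map_surjective ((e i).hom ≫ φ i ≫ eW.inv)
  haveI := hart W'
  obtain ⟨_, ⟨i₀, rfl⟩, hmin⟩ := (wellFounded_lt (α := Subobject W')).has_min
    (Set.range fun i => imageSubobject (φ' i)) (Set.range_nonempty _)
  refine ⟨i₀, fun k T x => ?_⟩
  obtain ⟨l, ⟨a, ha⟩, ⟨b, hb⟩⟩ := hdir i₀ k
  have hle : ∀ {i j : ι} (c : Z i ⟶ Z j), c ≫ φ j = φ i →
      imageSubobject (φ' i) ≤ imageSubobject (φ' j) := by
    intro i j c hc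
    obtain ⟨c', hc'⟩ := (Ind.yoneda (C := C)).map_surjective ((e i).hom ≫ c ≫ (e j).inv)
    have : c' ≫ φ' j = φ' i := (Ind.yoneda (C := C)).map_injective (by
      rw [Functor.map_comp, hc', hφ', hφ', ← hc]; simp)
    rw [← this]
    exact imageSubobject_comp_le _ _
  have h1 : imageSubobject (φ' i₀) ≤ imageSubobject (φ' k) :=
    (le_of_eq ((hle a ha).eq_or_lt.resolve_right (hmin _ ⟨l, rfl⟩)).symm).trans (hle b hb)
  obtain ⟨T₀, π₀, _, y₀, hy₀⟩ := exists_refine_of_image_le _ _ h1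
  obtain ⟨T', π, hπ, t, ht⟩ := surjective_up_to_refinements_of_epi
    ((Ind.yoneda (C := C)).map π₀) (x ≫ (e i₀).inv)
  refine ⟨T', π, hπ, t ≫ (Ind.yoneda (C := C)).map y₀ ≫ (e k).hom, ?_⟩
  have := congrArg (Ind.yoneda (C := C)).map hy₀
  rw [Functor.map_comp, Functor.map_comp, hφ', hφ', ← cancel_mono eW.hom] at this
  have ht' := congrArg (· ≫ (e i₀).hom ≫ φ i₀) ht
  simp only [Category.assoc, Iso.inv_hom_id_assoc, Iso.inv_hom_id, Category.comp_id] at this ht'
  rw [ht']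
  simp only [Category.assoc]
  rw [this]

variable (hart : ∀ X : C, IsArtinianObject X) (htor : ∀ X : C, ∃ n : ℕ, 0 < n ∧ n • 𝟙 X = 0)

include hart htor in
/-- `A = A[p ^ N] + p A`. -/
lemma exists_prime {A : Ind C} (hA : Cof A) {p : ℕ} (hp : p.Prime) :
    ∃ N : ℕ, ∀ {Z : Ind C} (g : A ⟶ Z), p • g = 0 → kernel.ι (p ^ N • 𝟙 A) ≫ g = 0 → g = 0 := by
  obtain ⟨N, hN⟩ := exists_min_image hart (hA p hp.pos)
    (fun j : ℕ => kernel (p ^ (j + 1) • 𝟙 A)) (fun j => hA _ (Nat.pow_pos hp.pos))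
    (fun j => tl p (p ^ j • kernel.ι (p ^ (j + 1) • 𝟙 A))
      (by rw [← mul_smul, ← pow_succ', ti_kill]))
    (fun i j => by
      refine ⟨i + j, ⟨tl _ (p ^ j • kernel.ι _) ?_, ?_⟩, ⟨tl _ (p ^ i • kernel.ι _) ?_, ?_⟩⟩
      · rw [← mul_smul, ← pow_add, show i + 1 + j = i + j + 1 by omega, ti_kill]
      · rw [← cancel_mono (kernel.ι (p • 𝟙 A))]
        simp [Preadditive.comp_nsmul, ← mul_smul, ← pow_add]
      · rw [← mul_smul, ← pow_add, show j + 1 + i = i + j + 1 by omega, ti_kill]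
      · rw [← cancel_mono (kernel.ι (p • 𝟙 A))]
        simp [Preadditive.comp_nsmul, ← mul_smul, ← pow_add, add_comm])
  refine ⟨N, fun {Z} g hpg hg => ?_⟩
  have key : ∀ (j : ℕ) (T : Ind C) (x : T ⟶ A), p ^ j • x = 0 → x ≫ g = 0 := by
    intro j
    induction j with
    | zero =>
      intro T x hx
      rw [pow_zero, one_smul] at hx
      rw [hx, zero_comp]
    | succ j ih =>
      intro T x hx
      by_cases hj : j + 1 ≤ N
      · rw [← tl_ι (p ^ N) x (nsmul_eq_zero_of_dvd x (pow_dvd_pow p hj) hx), Category.assoc, hg,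
          comp_zero]
      obtain ⟨d, rfl⟩ := Nat.exists_eq_add_of_le (show N ≤ j by omega)
      have hd : p ^ (N + 1) • (p ^ d • x) = 0 := by
        rw [← mul_smul, ← pow_add, show N + 1 + d = N + d + 1 by omega, hx]
      obtain ⟨T', π, _, y, hy⟩ := hN (N + d + 1) T (tl _ _ hd)
      have hy' := congrArg (· ≫ kernel.ι (p • 𝟙 A)) hy
      simp only [Category.assoc, tl_ι, Preadditive.comp_nsmul, ← mul_smul, ← pow_add] at hy'
      have h0 := ih T' (π ≫ x - p • (y ≫ kernel.ι (p ^ (N + d + 1 + 1) • 𝟙 A))) (by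
        rw [smul_sub, ← mul_smul, ← pow_succ, ← hy', sub_self])
      rw [Preadditive.sub_comp, Preadditive.nsmul_comp, ← Preadditive.comp_nsmul, hpg, comp_zero,
        sub_zero, Category.assoc] at h0
      exact zero_of_epi_comp π h0
  refine eq_zero_of_yoneda g fun X x => ?_
  obtain ⟨m, hm, hmx⟩ := exists_kill htor x
  obtain ⟨j, u, hu, rfl⟩ := Nat.exists_eq_pow_mul_and_not_dvd hm.ne' p hp.ne_one
  refine eq_zero_of_coprime (x ≫ g) ((hp.coprime_iff_not_dvd.2 hu)) ?_ ?_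
  · rw [← Preadditive.comp_nsmul, hpg, comp_zero]
  · rw [← Preadditive.nsmul_comp, key j _ (u • x) (by rw [← mul_smul, hmx])]

include hart htor in
/-- `A = A[M] + n A`. -/
lemma exists_bound {A : Ind C} (hA : Cof A) {n : ℕ} (hn : 0 < n) :
    ∃ M : ℕ, 0 < M ∧ ∀ {Z : Ind C} (g : A ⟶ Z), n • g = 0 → kernel.ι (M • 𝟙 A) ≫ g = 0 → g = 0 := by
  revert hn
  induction n using induction_on_primes with
  | zero => exact fun h => absurd h (lt_irrefl 0)
  | one => exact fun _ => ⟨1, one_pos, fun g hg _ => by rwa [one_smul] at hg⟩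
  | prime_mul p m hp ih =>
    intro hn
    obtain ⟨M, hM, hMg⟩ := ih (Nat.pos_of_mul_pos_left hn)
    obtain ⟨N, hN⟩ := exists_prime hart htor hA hp
    have step : ∀ {Z : Ind C} (g : A ⟶ Z) {a : ℕ}, a ∣ M * p ^ N →
        kernel.ι ((M * p ^ N) • 𝟙 A) ≫ g = 0 → kernel.ι (a • 𝟙 A) ≫ g = 0 := fun g a ha hg => by
      rw [← tl_ι (M * p ^ N) (kernel.ι (a • 𝟙 A)) (nsmul_eq_zero_of_dvd _ ha (ti_kill A a)),
        Category.assoc, hg, comp_zero]
    refine ⟨M * p ^ N, Nat.mul_pos hM (Nat.pow_pos hp.pos), fun g hg hg' => ?_⟩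
    refine hMg g (hN _ ?_ ?_) (step g (dvd_mul_right _ _) hg')
    · rw [← mul_smul, hg]
    · rw [Preadditive.comp_nsmul, step g (dvd_mul_left _ _) hg', smul_zero]

include hart htor in
lemma exists_bound_epi {A : Ind C} (hA : Cof A) {n : ℕ} (hn : 0 < n) :
    ∃ M : ℕ, 0 < M ∧ Epi (biprod.desc (kernel.ι (M • 𝟙 A)) (n • 𝟙 A)) := by
  obtain ⟨M, hM, h⟩ := exists_bound hart htor hA hn
  refine ⟨M, hM, Preadditive.epi_of_cancel_zero _ fun g hg => h g ?_ ?_⟩
  · simpa [mul_comp] using biprod.inr ≫= hg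
  · simpa using biprod.inl ≫= hg

include hart htor in
lemma Cof.isSmall_cokernel_mul {A : Ind C} (hA : Cof A) {n : ℕ} (hn : 0 < n) :
    IsSmall (cokernel (n • 𝟙 A)) := by
  obtain ⟨M, hM, h⟩ := exists_bound hart htor hA hn
  let φ : kernel ((M * n) • 𝟙 A) ⟶ kernel (M • 𝟙 A) := tl M (n • kernel.ι _) (by
    rw [← mul_smul, ti_kill])
  let c : kernel (M • 𝟙 A) ⟶ cokernel (n • 𝟙 A) := kernel.ι _ ≫ cokernel.π _
  have hφc : φ ≫ c = 0 := by
    simp only [φ, c, tl_ι_assoc]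
    rw [Preadditive.nsmul_comp, ← Preadditive.comp_nsmul,
      show n • cokernel.π (n • 𝟙 A) = 0 from (mul_comp _ n).symm.trans (cokernel.condition _),
      comp_zero]
  let S := ShortComplex.mk φ c hφc
  haveI : Epi S.g := Preadditive.epi_of_cancel_zero _ fun g hg => by
    refine zero_of_epi_comp (cokernel.π (n • 𝟙 A)) (h _ ?_ ?_)
    · rw [← mul_comp, cokernel.condition_assoc, zero_comp]
    · simpa [S, c] using hg
  refine isSmall_of_exact_epi S ?_ (hA _ (Nat.mul_pos hM hn)) (hA _ hM)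
  rw [ShortComplex.exact_iff_exact_up_to_refinements]
  intro T x hx
  obtain ⟨T', π, hπ, b, hb⟩ := refine_image (n • 𝟙 A) (x ≫ kernel.ι _)
    (by simpa [S, c] using hx)
  rw [comp_mul] at hb
  have hk : (M * n) • b = 0 := by
    rw [mul_smul, ← hb, ← Preadditive.comp_nsmul, ← Preadditive.comp_nsmul, ti_kill, comp_zero,
      comp_zero]
  refine ⟨T', π, hπ, tl _ b hk, ?_⟩
  rw [← cancel_mono (kernel.ι (M • 𝟙 A))]
  simp [S, φ, hb, Preadditive.comp_nsmul]

lemma Cof.kernel {A B : Ind C} (hA : Cof A) (hB : Cof B) (f : A ⟶ B) :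
    Cof (Limits.kernel f) := by
  intro n hn
  let a : Limits.kernel (n • 𝟙 (Limits.kernel f)) ⟶ Limits.kernel (n • 𝟙 A) :=
    tl n (kernel.ι _ ≫ kernel.ι f) (by rw [← Preadditive.nsmul_comp, ti_kill, zero_comp])
  let b : Limits.kernel (n • 𝟙 A) ⟶ Limits.kernel (n • 𝟙 B) :=
    tl n (kernel.ι _ ≫ f) (by rw [← Preadditive.nsmul_comp, ti_kill, zero_comp])
  let S := ShortComplex.mk a b (by
    rw [← cancel_mono (kernel.ι (n • 𝟙 B))]; simp [a, b])
  haveI : Mono (a ≫ kernel.ι (n • 𝟙 A)) := by simp only [a, tl_ι]; infer_instance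
  haveI : Mono a := mono_of_mono a (kernel.ι (n • 𝟙 A))
  haveI : Mono S.f := ‹Mono a›
  refine isSmall_of_exact_mono S ?_ (hA n hn) (hB n hn)
  rw [ShortComplex.exact_iff_exact_up_to_refinements]
  intro T x hx
  have hx' : (x ≫ kernel.ι (n • 𝟙 A)) ≫ f = 0 := by
    simpa [S, b] using hx =≫ kernel.ι (n • 𝟙 B)
  refine ⟨T, 𝟙 T, inferInstance, tl n (kernel.lift f _ hx') ?_, ?_⟩
  · rw [← cancel_mono (kernel.ι f)]
    simp only [Preadditive.nsmul_comp, kernel.lift_ι, zero_comp]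
    rw [← Preadditive.comp_nsmul, ti_kill, comp_zero]
  · rw [← cancel_mono (kernel.ι (n • 𝟙 A))]
    simp [S, a]

include hart htor in
lemma Cof.cokernel {A B : Ind C} (hA : Cof A) (hB : Cof B) (f : A ⟶ B) :
    Cof (Limits.cokernel f) := by
  intro n hn
  obtain ⟨M, hM, hMe⟩ := exists_bound_epi hart htor hA hn
  obtain ⟨M', hM', hMe'⟩ := exists_bound_epi hart htor (hA.kernel hB f) (Nat.mul_pos hn hM)
  -- pairs `(b, a)` with `n b = f a`
  let q₁ : Limits.kernel ((n * M) • 𝟙 B) ⊞ Limits.kernel (M • 𝟙 A) ⟶ Limits.kernel (M • 𝟙 B) :=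
    biprod.desc (tl M (n • kernel.ι _) (by rw [← mul_smul, mul_comm, ti_kill]))
      (-tl M (kernel.ι _ ≫ f) (by rw [← Preadditive.nsmul_comp, ti_kill, zero_comp]))
  let P := Limits.kernel q₁
  have hP : IsSmall P := isSmall_kernel ((hB _ (Nat.mul_pos hn hM)).biprod (hA _ hM)) (hB _ hM) _
  let β : P ⟶ B := kernel.ι q₁ ≫ biprod.fst ≫ kernel.ι _
  have hPcond : n • β = (kernel.ι q₁ ≫ biprod.snd ≫ kernel.ι _) ≫ f := by
    have h := kernel.condition q₁ =≫ kernel.ι (M • 𝟙 B)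
    rw [← sub_eq_zero]
    simpa [q₁, β, biprod.desc_eq, Preadditive.comp_nsmul, sub_eq_add_neg] using h
  -- pairs `(p, a)` with `b(p) = f a`
  let q₂ : P ⊞ Limits.kernel ((n * M * M') • 𝟙 A) ⟶ Limits.kernel ((n * M * M') • 𝟙 B) :=
    biprod.desc (tl _ β (nsmul_eq_zero_of_dvd _ (dvd_mul_right _ _) (by
        simp only [β, ← Preadditive.comp_nsmul, ti_kill, comp_zero])))
      (-tl _ (kernel.ι _ ≫ f) (by rw [← Preadditive.nsmul_comp, ti_kill, zero_comp]))
  have hW : IsSmall (Limits.kernel q₂) :=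
    isSmall_kernel (hP.biprod (hA _ (Nat.mul_pos (Nat.mul_pos hn hM) hM')))
      (hB _ (Nat.mul_pos (Nat.mul_pos hn hM) hM')) _
  have hWcond : (kernel.ι q₂ ≫ biprod.fst) ≫ β =
      (kernel.ι q₂ ≫ biprod.snd ≫ kernel.ι _) ≫ f := by
    have h := kernel.condition q₂ =≫ kernel.ι ((n * M * M') • 𝟙 B)
    rw [← sub_eq_zero]
    simpa [q₂, biprod.desc_eq, sub_eq_add_neg] using h
  let r : P ⟶ Limits.kernel (n • 𝟙 (Limits.cokernel f)) := tl n (β ≫ cokernel.π f) (by
    rw [← Preadditive.nsmul_comp, hPcond, Category.assoc, cokernel.condition, comp_zero])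
  let S := ShortComplex.mk (kernel.ι q₂ ≫ biprod.fst) r (by
    rw [← cancel_mono (kernel.ι (n • 𝟙 (Limits.cokernel f))), zero_comp, Category.assoc]
    simp only [r, tl_ι]
    rw [← Category.assoc, hWcond, Category.assoc, cokernel.condition, comp_zero])
  haveI : Epi S.g := by
    rw [epi_iff_surjective_up_to_refinements]
    intro T x
    obtain ⟨T₁, π₁, _, b, hb⟩ := surjective_up_to_refinements_of_epi (cokernel.π f)
      (x ≫ kernel.ι _)
    obtain ⟨T₂, π₂, _, a, ha⟩ := refine_image f (n • b) (by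
      rw [Preadditive.nsmul_comp, ← hb, ← Preadditive.comp_nsmul, ← Preadditive.comp_nsmul, ti_kill,
        comp_zero, comp_zero])
    obtain ⟨T₃, π₃, _, c, hc⟩ := surjective_up_to_refinements_of_epi
      (biprod.desc (kernel.ι (M • 𝟙 A)) (n • 𝟙 A)) a
    let b' : T₃ ⟶ B := π₃ ≫ π₂ ≫ b - (c ≫ biprod.snd) ≫ f
    let a' : T₃ ⟶ Limits.kernel (M • 𝟙 A) := c ≫ biprod.fst
    have hb' : n • b' = (a' ≫ kernel.ι _) ≫ f := by
      simp only [b', a', smul_sub, ← Preadditive.comp_nsmul, ha]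
      rw [reassoc_of% hc]
      simp [biprod.desc_eq, mul_comp, comp_mul, Preadditive.nsmul_comp, Preadditive.comp_nsmul]
    have hkill : (n * M) • b' = 0 := by
      rw [mul_comm, mul_smul, hb', ← Preadditive.nsmul_comp, ← Preadditive.comp_nsmul, ti_kill,
        comp_zero, zero_comp]
    refine ⟨T₃, π₃ ≫ π₂ ≫ π₁, inferInstance,
      kernel.lift q₁ (biprod.lift (tl _ b' hkill) a') ?_, ?_⟩
    · rw [← cancel_mono (kernel.ι (M • 𝟙 B))]
      simp only [q₁, biprod.lift_desc, Preadditive.add_comp, Preadditive.comp_neg,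
        Preadditive.neg_comp, Category.assoc, tl_ι, Preadditive.comp_nsmul, zero_comp]
      rw [hb', Category.assoc, add_neg_cancel]
    · rw [← cancel_mono (kernel.ι (n • 𝟙 (Limits.cokernel f)))]
      simp only [S, r, Category.assoc, tl_ι, β, kernel.lift_ι_assoc, biprod.lift_fst_assoc,
        tl_ι_assoc]
      rw [hb]
      simp [b']
  refine isSmall_of_exact_epi S ?_ hW hP
  rw [ShortComplex.exact_iff_exact_up_to_refinements]
  intro T x hx
  obtain ⟨T₁, π₁, _, a, ha⟩ := refine_image f (x ≫ β) (by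
    simpa [S, r] using hx =≫ kernel.ι (n • 𝟙 (Limits.cokernel f)))
  have hka : ((n * M) • a) ≫ f = 0 := by
    rw [Preadditive.nsmul_comp, ← ha, ← Preadditive.comp_nsmul, ← Preadditive.comp_nsmul]
    simp [β, ← Preadditive.comp_nsmul, ti_kill]
  obtain ⟨T₂, π₂, _, c, hc⟩ := surjective_up_to_refinements_of_epi
    (biprod.desc (kernel.ι (M' • 𝟙 (Limits.kernel f))) ((n * M) • 𝟙 (Limits.kernel f)))
    (kernel.lift f ((n * M) • a) hka)
  let a' : T₂ ⟶ A := π₂ ≫ a - (c ≫ biprod.snd) ≫ kernel.ι f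
  have ha'f : a' ≫ f = π₂ ≫ π₁ ≫ x ≫ β := by simp [a', ha]
  have ha'k : (n * M * M') • a' = 0 := by
    have h2 : (n * M) • a' = (c ≫ biprod.fst ≫ kernel.ι _) ≫ kernel.ι f := by
      have h := hc =≫ kernel.ι f
      simp only [biprod.desc_eq, Preadditive.comp_add, Preadditive.add_comp, Category.assoc,
        kernel.lift_ι, mul_comp, comp_mul, Preadditive.comp_nsmul] at h
      simp only [a', smul_sub, Category.assoc]
      rw [h]
      simp [Preadditive.comp_nsmul, Preadditive.nsmul_comp]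
    rw [mul_comm, mul_smul, h2, ← Preadditive.nsmul_comp, ← Preadditive.comp_nsmul,
      ← Preadditive.comp_nsmul, ti_kill, comp_zero, comp_zero, zero_comp]
  refine ⟨T₂, π₂ ≫ π₁, inferInstance,
    kernel.lift q₂ (biprod.lift (π₂ ≫ π₁ ≫ x) (tl _ a' ha'k)) ?_, ?_⟩
  · rw [← cancel_mono (kernel.ι ((n * M * M') • 𝟙 B))]
    simp [q₂, ha'f]
  · simp [S]

include hart htor in
lemma Cof.image {A B : Ind C} (hA : Cof A) (hB : Cof B) (f : A ⟶ B) :
    Cof ((imageSubobject f : Subobject B) : Ind C) :=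
  (Cof.kernel hB (Cof.cokernel hart htor hA hB f) (cokernel.π f)).of_iso
    ((Abelian.imageIsoImage f) ≪≫ (imageSubobjectIso f).symm)

end Ind

end Groth.Agent.CofiniteIndLib
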