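import Groth.Agent.CofiniteIndLib.Basic
import Mathlib

/-!
# Divisible part and Mittag-Leffler condition
-/

set_option autoImplicit false

universe v u

open CategoryTheory CategoryTheory.Limits

namespace Groth.Agent.CofiniteIndLib

section General

variable {V : Type u} [Category.{v} V] [Abelian V] (A : V)

/-- Stability of images of powers of `p` from `A = A[p ^ N] + p A`. -/
lemma image_pow_mul_succ {p N : ℕ}
    (h : Epi (biprod.desc (kernel.ι (p ^ N • 𝟙 A)) (p • 𝟙 A))) (c : ℕ) :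
    imageSubobject ((p ^ N * (c * p)) • 𝟙 A) = imageSubobject ((p ^ N * c) • 𝟙 A) := by
  haveI := h
  refine le_antisymm ?_ (image_le_of_refine _ _ (biprod.desc (kernel.ι (p ^ N • 𝟙 A)) (p • 𝟙 A))
    biprod.snd ?_)
  · rw [← mul_assoc]; exact image_mul_mul_le A _ p
  · apply biprod.hom_ext'
    · simp only [biprod.inl_desc_assoc, biprod.inl_snd_assoc, zero_comp]
      rw [comp_mul, mul_comm, mul_smul, ti_kill, smul_zero]
    · simp only [biprod.inr_desc_assoc, biprod.inr_snd_assoc]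
      rw [mul_comp, ← mul_smul]
      congr 1
      ring

/-- A bound `M` with the images constant on multiples of it. -/
def Stable (M : ℕ) : Prop :=
  ∀ k : ℕ, 0 < k → imageSubobject ((M * k) • 𝟙 A) = imageSubobject (M • 𝟙 A)

variable {A}

lemma Stable.epi {M : ℕ} (h : Stable A M) {k : ℕ} (hk : 0 < k) :
    Epi (k • 𝟙 (imageSubobject (M • 𝟙 A) : V)) := epi_mul_image M k (h k hk).ge

lemma cokernel_arrow_kill (M : ℕ) :
    M • 𝟙 (cokernel (imageSubobject (M • 𝟙 A)).arrow) = 0 := by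
  rw [← cancel_epi (cokernel.π (imageSubobject (M • 𝟙 A)).arrow), comp_zero, comp_mul]
  calc M • cokernel.π (imageSubobject (M • 𝟙 A)).arrow
      = (factorThruImageSubobject (M • 𝟙 A) ≫ (imageSubobject (M • 𝟙 A)).arrow) ≫
          cokernel.π (imageSubobject (M • 𝟙 A)).arrow := by
        rw [imageSubobject_arrow_comp, mul_comp]
    _ = 0 := by rw [Category.assoc, cokernel.condition, comp_zero]

lemma image_le_of_cokernel_kill (B' : Subobject A) {M : ℕ}
    (h : M • 𝟙 (cokernel B'.arrow) = 0) (k : ℕ) (hk : M ∣ k) :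
    imageSubobject (k • 𝟙 A) ≤ B' := by
  have hk0 : (k • 𝟙 A) ≫ cokernel.π B'.arrow = 0 := by
    rw [mul_comp, ← comp_mul, show k • 𝟙 (cokernel B'.arrow) = 0 from nsmul_eq_zero_of_dvd _ hk h,
      comp_zero]
  let l := Abelian.monoLift B'.arrow (k • 𝟙 A) hk0
  exact imageSubobject_le _ l (Abelian.monoLift_comp _ _ _)

/-- Divisibly Mittag-Leffler is the same as having a stable index. -/
lemma ml_iff_exists_stable :
    (∀ n : ℕ, 0 < n → ∃ m : ℕ, 0 < m ∧ n ∣ m ∧ ∀ m' : ℕ, 0 < m' → m ∣ m' →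
        imageSubobject ((m' / n) • 𝟙 A) = imageSubobject ((m / n) • 𝟙 A)) ↔
      ∃ M : ℕ, 0 < M ∧ Stable A M := by
  constructor
  · intro h
    obtain ⟨m, hm, -, h⟩ := h 1 one_pos
    refine ⟨m, hm, fun k hk => ?_⟩
    simpa using h (m * k) (Nat.mul_pos hm hk) (dvd_mul_right _ _)
  · rintro ⟨M, hM, h⟩ n hn
    refine ⟨n * M, Nat.mul_pos hn hM, dvd_mul_right _ _, ?_⟩
    rintro _ hm ⟨c, rfl⟩
    rw [mul_assoc, Nat.mul_div_cancel_left _ hn, Nat.mul_div_cancel_left _ hn]
    exact h c (Nat.pos_of_mul_pos_left hm)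

lemma stable_iff_exists_divisible :
    (∃ M : ℕ, 0 < M ∧ Stable A M) ↔
      ∃ B' : Subobject A, (∀ k : ℕ, 0 < k → Epi (k • 𝟙 (B' : V))) ∧
        ∃ M : ℕ, 0 < M ∧ M • 𝟙 (cokernel B'.arrow) = 0 := by
  constructor
  · rintro ⟨M, hM, h⟩
    exact ⟨_, fun k hk => h.epi hk, M, hM, cokernel_arrow_kill M⟩
  · rintro ⟨B', hB', M, hM, hk⟩
    refine ⟨M, hM, fun k hk0 => ?_⟩
    have e : ∀ j : ℕ, 0 < j → M ∣ j → imageSubobject (j • 𝟙 A) = B' := fun j hj hd => by
      haveI := hB' j hj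
      exact le_antisymm (image_le_of_cokernel_kill B' hk j hd) (le_image_of_epi B' j)
    rw [e _ (Nat.mul_pos hM hk0) (dvd_mul_right _ _), e _ hM dvd_rfl]

lemma largest_divisible (B' : Subobject A) {M : ℕ} (hM : 0 < M)
    (h : M • 𝟙 (cokernel B'.arrow) = 0) (D : Subobject A)
    (hD : ∀ k : ℕ, 0 < k → Epi (k • 𝟙 (D : V))) : D ≤ B' :=
  haveI := hD M hM
  (le_image_of_epi D M).trans (image_le_of_cokernel_kill B' h M dvd_rfl)

/-- Gluing stability over finitely many primes. -/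
lemma exists_stable_primes (S : Set ℕ)
    (N : ℕ → ℕ) (hN : ∀ p ∈ S, ∀ c : ℕ,
      imageSubobject ((p ^ N p * (c * p)) • 𝟙 A) = imageSubobject ((p ^ N p * c) • 𝟙 A))
    (M : ℕ) (hM : ∀ p ∈ S, p ^ N p ∣ M) :
    ∀ k : ℕ, 0 < k → (∀ p : ℕ, p.Prime → p ∣ k → p ∈ S) →
      imageSubobject ((M * k) • 𝟙 A) = imageSubobject (M • 𝟙 A) := by
  intro k
  induction k using induction_on_primes with
  | zero => exact fun h => absurd h (lt_irrefl 0)
  | one => exact fun _ _ => by simp only [mul_one]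
  | prime_mul p a hp ih =>
    intro hpa hS
    have hpS := hS p hp (dvd_mul_right _ _)
    rw [← ih (Nat.pos_of_mul_pos_left hpa) fun q hq hqa => hS q hq (hqa.mul_left p)]
    obtain ⟨c, hc⟩ := hM p hpS
    rw [hc, show p ^ N p * c * (p * a) = p ^ N p * ((c * a) * p) by ring, hN p hpS]
    simp only [mul_assoc]

end General

section Ind

variable {C : Type v} [SmallCategory C] [Abelian C]
variable (hart : ∀ X : C, IsArtinianObject X) (htor : ∀ X : C, ∃ n : ℕ, 0 < n ∧ n • 𝟙 X = 0)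

include hart htor in
lemma Cof.exists_pow {A : Ind C} (hA : Cof A) {p : ℕ} (hp : p.Prime) :
    ∃ N : ℕ, ∀ c : ℕ,
      imageSubobject ((p ^ N * (c * p)) • 𝟙 A) = imageSubobject ((p ^ N * c) • 𝟙 A) := by
  obtain ⟨N, h⟩ := exists_prime hart htor hA hp
  refine ⟨N, image_pow_mul_succ A (Preadditive.epi_of_cancel_zero _ fun g hg => h g ?_ ?_)⟩
  · simpa [mul_comp] using biprod.inr ≫= hg
  · simpa using biprod.inl ≫= hg

include hart htor in
/-- Stable index for multiples with the same prime divisors. -/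
lemma Cof.exists_stable_of {A : Ind C} (hA : Cof A) (S : Finset ℕ) (hS : ∀ p ∈ S, p.Prime) :
    ∃ M : ℕ, 0 < M ∧ (∀ p : ℕ, p.Prime → p ∣ M → p ∈ S) ∧
      ∀ k : ℕ, 0 < k → (∀ p : ℕ, p.Prime → p ∣ k → p ∈ S) →
        imageSubobject ((M * k) • 𝟙 A) = imageSubobject (M • 𝟙 A) := by
  choose! N hN using fun p (hp : p ∈ S) => hA.exists_pow hart htor (hS p hp)
  refine ⟨∏ p ∈ S, p ^ N p, Finset.prod_pos fun p hp => Nat.pow_pos (hS p hp).pos, fun q hq hqM => ?_,
    exists_stable_primes (↑S) N hN _ fun p hp => Finset.dvd_prod_of_mem _ hp⟩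
  obtain ⟨p, hp, hqp⟩ := (Prime.dvd_finsetProd_iff hq.prime _).1 hqM
  exact (Nat.prime_dvd_prime_iff_eq hq (hS p hp)).1 (hq.dvd_of_dvd_pow hqp) ▸ hp

include hart htor in
lemma Cof.exists_stable_of_finite {A : Ind C} (hA : Cof A)
    (h : {p : ℕ | p.Prime ∧ ¬ Epi (p • 𝟙 A)}.Finite) : ∃ M : ℕ, 0 < M ∧ Stable A M := by
  classical
  obtain ⟨M, hM, -, hS⟩ := hA.exists_stable_of hart htor h.toFinset (fun p hp => (h.mem_toFinset.1 hp).1)
  refine ⟨M, hM, fun k => ?_⟩
  induction k using induction_on_primes with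
  | zero => exact fun h => absurd h (lt_irrefl 0)
  | one => exact fun _ => by simp only [mul_one]
  | prime_mul p a hp ih =>
    intro hpa
    rw [← ih (Nat.pos_of_mul_pos_left hpa)]
    by_cases hep : Epi (p • 𝟙 A)
    · refine le_antisymm ?_ (image_le_of_refine _ _ (p • 𝟙 A) (𝟙 A) ?_)
      · obtain e : M * (p * a) = M * a * p := by ring
        simp only [e]; exact image_mul_mul_le A _ p
      · rw [comp_mul, comp_mul, ← mul_smul, show M * a * p = M * (p * a) by ring]
    · obtain ⟨N, hN⟩ := hA.exists_pow hart htor hp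
      -- multiply the stable equality by the part prime to `p`
      obtain ⟨T, π, _, y, hy⟩ := exists_refine_of_image_le _ _ (hS p hp.pos fun q hq hqp =>
        h.mem_toFinset.2 ((Nat.prime_dvd_prime_iff_eq hq hp).1 hqp ▸ ⟨hp, hep⟩)).ge
      refine le_antisymm ?_ (image_le_of_refine _ _ π y ?_)
      · obtain e : M * (p * a) = M * a * p := by ring
        simp only [e]; exact image_mul_mul_le A _ p
      · simp only [comp_mul] at hy ⊢
        rw [mul_comm M a, mul_smul, hy, ← mul_smul, show a * (M * p) = M * (p * a) by ring]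

/-- The intersection of the images of all positive multiplications. -/
noncomputable def divPart (A : Ind C) : Subobject A :=
  kernelSubobject (Pi.lift fun k : ULift.{v} ℕ => cokernel.π ((k.down + 1) • 𝟙 A))

lemma comp_eq_zero_iff_factors {A T : Ind C} (x : T ⟶ A) :
    (divPart A).Factors x ↔ ∀ k : ℕ, 0 < k → x ≫ cokernel.π (k • 𝟙 A) = 0 := by
  rw [divPart, kernelSubobject_factors_iff]
  constructor
  · intro h k hk
    obtain ⟨k, rfl⟩ := Nat.exists_eq_add_of_le' hk
    simpa using h =≫ Pi.π _ (ULift.up k)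
  · intro h
    refine Pi.hom_ext _ _ fun k => ?_
    simpa using h (k.down + 1) k.down.succ_pos

lemma divPart_le_image (A : Ind C) {k : ℕ} (hk : 0 < k) :
    divPart A ≤ imageSubobject (k • 𝟙 A) := by
  obtain ⟨T, π, _, y, hy⟩ := refine_image (k • 𝟙 A) (divPart A).arrow
    ((comp_eq_zero_iff_factors _).1
      (Subobject.factors_self _) k hk)
  calc divPart A = imageSubobject (divPart A).arrow :=
        ((imageSubobject_mono _).trans (Subobject.mk_arrow _)).symm
    _ ≤ _ := image_le_of_refine _ _ π y hy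

lemma le_divPart {A : Ind C} (D : Subobject A)
    (hD : ∀ k : ℕ, 0 < k → Epi (k • 𝟙 (D : Ind C))) : D ≤ divPart A := by
  refine (Subobject.le_of_comm ((divPart A).factorThru D.arrow ?_) (Subobject.factorThru_arrow _ _ _))
  refine (comp_eq_zero_iff_factors _).2 fun k hk => ?_
  haveI := hD k hk
  rw [← Subobject.ofLE_arrow (le_image_of_epi D k), Category.assoc]
  suffices (imageSubobject (k • 𝟙 A)).arrow ≫ cokernel.π (k • 𝟙 A) = 0 by rw [this, comp_zero]
  rw [← cancel_epi (factorThruImageSubobject (k • 𝟙 A)), imageSubobject_arrow_comp_assoc,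
    cokernel.condition, comp_zero]

/-- An element of `M A` killed by `n` lies in every `k A`. -/
lemma factors_of_kill {A : Ind C} {M n : ℕ} (hn : 0 < n)
    (hS : ∀ k : ℕ, 0 < k → (∀ p : ℕ, p.Prime → p ∣ k → p ∣ n) →
      imageSubobject ((M * k) • 𝟙 A) = imageSubobject (M • 𝟙 A))
    {T : Ind C} (z : T ⟶ A) (hz : n • z = 0) (hzM : z ≫ cokernel.π (M • 𝟙 A) = 0) :
    (divPart A).Factors z := by
  rw [comp_eq_zero_iff_factors]
  intro k hk
  -- split off the part of `k` prime to `n`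
  have hsplit : ∀ k : ℕ, 0 < k → ∃ k₁ k₂, k = k₁ * k₂ ∧
      (∀ p : ℕ, p.Prime → p ∣ k₁ → p ∣ n) ∧ Nat.Coprime k₂ n := by
    intro k
    induction k using induction_on_primes with
    | zero => exact fun h => absurd h (lt_irrefl 0)
    | one => exact fun _ => ⟨1, 1, rfl, fun p hp h => absurd (Nat.dvd_one.1 h) hp.ne_one,
        Nat.coprime_one_left n⟩
    | prime_mul p a hp iha =>
      intro hpa
      obtain ⟨k₁, k₂, rfl, h₁, h₂⟩ := iha (Nat.pos_of_mul_pos_left hpa)
      by_cases hpn : p ∣ n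
      · exact ⟨p * k₁, k₂, by ring, fun q hq hqd => (hq.dvd_mul.1 hqd).elim
          (fun h => (Nat.prime_dvd_prime_iff_eq hq hp).1 h ▸ hpn) (h₁ q hq), h₂⟩
      · exact ⟨k₁, p * k₂, by ring, h₁, Nat.Coprime.mul_left ((hp.coprime_iff_not_dvd).2 hpn) h₂⟩
  obtain ⟨k₁, k₂, rfl, h₁, h₂⟩ := hsplit k hk
  obtain ⟨T₁, π₁, _, w, hw⟩ := refine_image (M • 𝟙 A) z hzM
  obtain ⟨T₂, π₂, _, w', hw'⟩ := exists_refine_of_image_le _ _
    (hS k₁ (Nat.pos_of_mul_pos_right hk) h₁).ge
  obtain ⟨T₃, π₃, _, t, ht⟩ := surjective_up_to_refinements_of_epi π₂ w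
  simp only [comp_mul] at hw hw'
  have e1 : (k₂ • (π₃ ≫ π₁ ≫ z)) ≫ cokernel.π ((k₁ * k₂) • 𝟙 A) = 0 := by
    have e : k₂ • (π₃ ≫ π₁ ≫ z) = (M • (t ≫ w')) ≫ ((k₁ * k₂) • 𝟙 A) := by
      rw [comp_mul, hw, Preadditive.comp_nsmul, ht, ← Preadditive.comp_nsmul, hw',
        Preadditive.comp_nsmul, ← mul_smul, ← mul_smul]
      congr 1
      ring
    rw [e, Category.assoc, cokernel.condition, comp_zero]
  have e2 : (π₃ ≫ π₁ ≫ z) ≫ cokernel.π ((k₁ * k₂) • 𝟙 A) = 0 := by
    refine eq_zero_of_coprime _ h₂ ?_ ?_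
    · rw [← Preadditive.nsmul_comp, e1]
    · rw [Category.assoc, Category.assoc, ← Preadditive.comp_nsmul, ← Preadditive.comp_nsmul,
        ← Preadditive.nsmul_comp, hz, zero_comp, comp_zero, comp_zero]
  rw [Category.assoc, Category.assoc] at e2
  exact zero_of_epi_comp π₁ (zero_of_epi_comp π₃ e2)

include hart htor in
lemma Cof.divPart_spec {A : Ind C} (hA : Cof A) :
    (∀ k : ℕ, 0 < k → Epi (k • 𝟙 (divPart A : Ind C))) ∧
      Cof (divPart A : Ind C) ∧ Cof (Limits.cokernel (divPart A).arrow) := by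
  have hstab : ∀ n : ℕ, 0 < n → ∃ M : ℕ, 0 < M ∧ ∀ k : ℕ, 0 < k →
      (∀ p : ℕ, p.Prime → p ∣ k → p ∣ n) →
      imageSubobject ((M * k) • 𝟙 A) = imageSubobject (M • 𝟙 A) := fun n hn => by
    obtain ⟨M, hM, -, h⟩ := hA.exists_stable_of hart htor n.primeFactors
      fun p hp => Nat.prime_of_mem_primeFactors hp
    exact ⟨M, hM, fun k hk hkn => h k hk fun p hp hpk => Nat.mem_primeFactors.2 ⟨hp, hkn p hp hpk, hn.ne'⟩⟩
  have hcof : Cof (divPart A : Ind C) := by
    intro n hn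
    obtain ⟨M, hM, hS⟩ := hstab n hn
    let I := imageSubobject (M • 𝟙 A)
    let j := Subobject.ofLE _ _ (divPart_le_image A hM)
    refine (Cof.image hart htor hA hA (M • 𝟙 A) n hn).of_iso
      { hom := tl n ((divPart A).factorThru (kernel.ι (n • 𝟙 (I : Ind C)) ≫ I.arrow) ?_) ?_
        inv := tl n (kernel.ι _ ≫ j) (by rw [← Preadditive.nsmul_comp, ti_kill, zero_comp])
        hom_inv_id := ?_
        inv_hom_id := ?_ }
    · refine factors_of_kill hn hS _ ?_ ?_
      · rw [← Preadditive.nsmul_comp, ti_kill, zero_comp]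
      · rw [Category.assoc]
        suffices I.arrow ≫ cokernel.π (M • 𝟙 A) = 0 by simp [this]
        rw [← cancel_epi (factorThruImageSubobject (M • 𝟙 A)), imageSubobject_arrow_comp_assoc,
          cokernel.condition, comp_zero]
    · rw [← cancel_mono (divPart A).arrow, Preadditive.nsmul_comp, Subobject.factorThru_arrow,
        ← Preadditive.nsmul_comp, ti_kill, zero_comp, zero_comp]
    · rw [← cancel_mono (kernel.ι _), ← cancel_mono I.arrow]
      simp [j, I]
    · rw [← cancel_mono (kernel.ι _), ← cancel_mono (divPart A).arrow]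
      simp [j, I]
  refine ⟨fun k hk => ?_, hcof, Cof.cokernel hart htor hcof hA _⟩
  refine Preadditive.epi_of_cancel_zero _ fun g hg => eq_zero_of_yoneda g fun X x => ?_
  obtain ⟨n, hn, hnx⟩ := exists_kill htor x
  obtain ⟨M, hM, hS⟩ := hstab (n * k) (Nat.mul_pos hn hk)
  obtain ⟨T, π, _, b, hb⟩ := refine_image ((k * M) • 𝟙 A) (x ≫ (divPart A).arrow)
    ((comp_eq_zero_iff_factors _).1 ((divPart A).factors_comp_arrow x) _ (Nat.mul_pos hk hM))
  rw [comp_mul] at hb
  have hfac : (divPart A).Factors (M • b) := by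
    refine factors_of_kill (Nat.mul_pos hn hk) hS _ ?_ ?_
    · rw [← mul_smul, mul_assoc, mul_smul, ← hb, ← Preadditive.comp_nsmul,
        ← Preadditive.nsmul_comp, hnx, zero_comp, comp_zero]
    · rw [show M • b = b ≫ (M • 𝟙 A) from (comp_mul b M).symm, Category.assoc, cokernel.condition,
        comp_zero]
  have e : π ≫ x = (divPart A).factorThru (M • b) hfac ≫ (k • 𝟙 _) := by
    rw [← cancel_mono (divPart A).arrow, comp_mul, Preadditive.nsmul_comp, Subobject.factorThru_arrow,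
      Category.assoc, hb, ← mul_smul]
  refine zero_of_epi_comp π ?_
  rw [← Category.assoc, e, Category.assoc, hg, comp_zero]

/-- The `p`-primary case. -/
lemma cof_of_pow {p : ℕ} (hp : p.Prime) (htor : ∀ X : C, ∃ n : ℕ, (p ^ n) • 𝟙 X = 0)
    {A : Ind C} (hA : ∀ n : ℕ, IsSmall (kernel ((p ^ n) • 𝟙 A))) : Cof A := by
  intro m hm
  obtain ⟨j, u, hu, rfl⟩ := Nat.exists_eq_pow_mul_and_not_dvd hm.ne' p hp.ne_one
  have h : (p ^ j) • kernel.ι ((p ^ j * u) • 𝟙 A) = 0 := eq_zero_of_yoneda _ fun X x => by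
    obtain ⟨n, hn⟩ := htor X
    refine eq_zero_of_coprime _ (Nat.Coprime.pow_left n ((hp.coprime_iff_not_dvd).2 hu)) ?_ ?_
    · rw [← Preadditive.nsmul_comp, ← mul_comp x, ← (Ind.yoneda (C := C)).map_id,
        ← Functor.map_nsmul, hn, Functor.map_zero, zero_comp, zero_comp]
    · rw [← Preadditive.comp_nsmul, ← mul_smul, mul_comm u, ti_kill, comp_zero]
  exact (hA j).of_iso
    { hom := tl _ (kernel.ι _) (nsmul_eq_zero_of_dvd _ (dvd_mul_right _ _) (ti_kill A _))
      inv := tl _ (kernel.ι _) h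
      hom_inv_id := by rw [← cancel_mono (kernel.ι _)]; simp
      inv_hom_id := by rw [← cancel_mono (kernel.ι _)]; simp }

lemma htor_of_pow {p : ℕ} (hp : p.Prime) (htor : ∀ X : C, ∃ n : ℕ, (p ^ n) • 𝟙 X = 0) (X : C) :
    ∃ n : ℕ, 0 < n ∧ n • 𝟙 X = 0 := (htor X).elim fun n hn => ⟨p ^ n, Nat.pow_pos hp.pos, hn⟩

end Ind

end Groth.Agent.CofiniteIndLib
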